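import Mathlib
import Cfsg.Agent.Lib.Helper31.Siegel.Defs

/-!
# SIEGEL (S5072), package [CONN2B]

Two singular lines through `p` with `B r s ≠ 0` have a common opposite line (`n ≥ 3`).
-/

set_option autoImplicit false
open scoped Matrix

namespace Cfsg.Agent.Lib.Helper86.Siegel

open Cfsg.Agent.Lib.Helper31.Siegel

universe u

/-- **[CONN2B]** -/
theorem pkgConn2B : PkgConn2B.{u} := by
  intro n F _ p r s hn hpr hps hβ
  obtain ⟨hli, hQp, hQr, hQpr⟩ := hpr
  obtain ⟨-, -, hQs, hQps⟩ := hps
  obtain ⟨β, hβdef⟩ : ∃ β : F, β = B r s := ⟨_, rfl⟩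
  rw [← hβdef] at hβ
  have hrs : B r s = β := hβdef.symm
  have hsr : B s r = β := by rw [B_comm]; exact hrs
  have hBpr : B p r = 0 := by
    have h := Q_add p r
    rw [hQpr, hQp, hQr] at h
    simpa using h.symm
  have hBps : B p s = 0 := by
    have h := Q_add p s
    rw [hQps, hQp, hQs] at h
    simpa using h.symm
  have hBrp : B r p = 0 := by rw [B_comm]; exact hBpr
  have hBsp : B s p = 0 := by rw [B_comm]; exact hBps
  have hBpp : B p p = 0 := by rw [B_self, hQp, mul_zero]
  have hBrr : B r r = 0 := by rw [B_self, hQr, mul_zero]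
  have hBss : B s s = 0 := by rw [B_self, hQs, mul_zero]
  have hp0 : p ≠ 0 := by
    have h := hli.ne_zero 0
    simpa using h
  -- a vector `w` with `B p w = 1`, `B r w = 0`, `B s w = 0`
  obtain ⟨w', hw'⟩ : ∃ w' : Vec n F, B p w' ≠ 0 := by
    by_contra hcon
    push_neg at hcon
    exact hp0 (eq_zero_of_B p hcon)
  obtain ⟨w'', hw''⟩ : ∃ w'' : Vec n F, w'' = (B p w')⁻¹ • w' := ⟨_, rfl⟩
  have hpw'' : B p w'' = 1 := by rw [hw'', B_smul_right]; exact inv_mul_cancel₀ hw'
  obtain ⟨w, hw⟩ : ∃ w : Vec n F, w = w'' - (B w'' s / β) • r - (B w'' r / β) • s := ⟨_, rfl⟩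
  have hpw : B p w = 1 := by
    rw [hw, B_sub_right, B_sub_right, B_smul_right, B_smul_right, hBpr, hBps, hpw'']; ring
  have hrw : B r w = 0 := by
    rw [hw, B_sub_right, B_sub_right, B_smul_right, B_smul_right, hBrr, hrs, B_comm r w'']
    field_simp; ring
  have hsw : B s w = 0 := by
    rw [hw, B_sub_right, B_sub_right, B_smul_right, B_smul_right, hBss, hsr, B_comm s w'']
    field_simp; ring
  -- the singular vector `x`
  obtain ⟨x, hx⟩ : ∃ x : Vec n F, x = w - QF n F w • p := ⟨_, rfl⟩
  have hQx : QF n F x = 0 := by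
    rw [hx, Q_sub, Q_smul, hQp, B_smul_right, B_comm w p, hpw]; ring
  have hpx : B p x = 1 := by
    rw [hx, B_sub_right, B_smul_right, hBpp, hpw]; ring
  have hrx : B r x = 0 := by
    rw [hx, B_sub_right, B_smul_right, hBrp, hrw]; ring
  have hsx : B s x = 0 := by
    rw [hx, B_sub_right, B_smul_right, hBsp, hsw]; ring
  have hBxx : B x x = 0 := by rw [B_self, hQx, mul_zero]
  -- a non-zero vector perpendicular to `p, x, r, s`
  let L : Vec n F →ₗ[F] (Fin 4 → F) :=
    { toFun := fun v => ![B v p, B v x, B v r, B v s]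
      map_add' := by
        intro a b
        ext i
        fin_cases i <;> simp [B_add_left]
      map_smul' := by
        intro c a
        ext i
        fin_cases i <;> simp [B_smul_left] }
  have hker : LinearMap.ker L ≠ ⊥ := by
    intro hbot
    have hinj : Function.Injective L := LinearMap.ker_eq_bot.mp hbot
    have h1 := LinearMap.finrank_le_finrank_of_injective hinj
    rw [Module.finrank_fin_fun, Module.finrank_fintype_fun_eq_card, Fintype.card_sum,
      Fintype.card_fin] at h1
    omega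
  obtain ⟨w1, hw1mem, hw1ne⟩ := Submodule.exists_mem_ne_zero_of_ne_bot hker
  have hw1 : L w1 = 0 := LinearMap.mem_ker.mp hw1mem
  have hw1p : B w1 p = 0 := by have h := congrFun hw1 0; simpa [L] using h
  have hw1x : B w1 x = 0 := by have h := congrFun hw1 1; simpa [L] using h
  have hw1r : B w1 r = 0 := by have h := congrFun hw1 2; simpa [L] using h
  have hw1s : B w1 s = 0 := by have h := congrFun hw1 3; simpa [L] using h
  obtain ⟨u, hu⟩ : ∃ u : Vec n F, B w1 u ≠ 0 := by
    by_contra hcon
    push_neg at hcon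
    exact hw1ne (eq_zero_of_B w1 hcon)
  obtain ⟨w2, hw2⟩ : ∃ w2 : Vec n F,
      w2 = u - (B u x • p + B u p • x + (B u s / β) • r + (B u r / β) • s) := ⟨_, rfl⟩
  have hw2p : B w2 p = 0 := by
    rw [hw2, B_sub_left, B_add_left, B_add_left, B_add_left, B_smul_left, B_smul_left,
      B_smul_left, B_smul_left, hBpp, hBrp, hBsp, B_comm x p, hpx]; ring
  have hw2x : B w2 x = 0 := by
    rw [hw2, B_sub_left, B_add_left, B_add_left, B_add_left, B_smul_left, B_smul_left,
      B_smul_left, B_smul_left, hpx, hBxx, hrx, hsx]; ring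
  have hw2r : B w2 r = 0 := by
    rw [hw2, B_sub_left, B_add_left, B_add_left, B_add_left, B_smul_left, B_smul_left,
      B_smul_left, B_smul_left, hBpr, B_comm x r, hrx, hBrr, hsr]
    field_simp; ring
  have hw2s : B w2 s = 0 := by
    rw [hw2, B_sub_left, B_add_left, B_add_left, B_add_left, B_smul_left, B_smul_left,
      B_smul_left, B_smul_left, hBps, B_comm x s, hsx, hrs, hBss]
    field_simp; ring
  have hw12 : B w1 w2 = B w1 u := by
    rw [hw2, B_sub_right, B_add_right, B_add_right, B_add_right, B_smul_right, B_smul_right,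
      B_smul_right, B_smul_right, hw1p, hw1x, hw1r, hw1s]; ring
  -- a non-singular vector perpendicular to `p, x, r, s`
  obtain ⟨w0, hQw0, hw0p, hw0x, hw0r, hw0s⟩ : ∃ w0 : Vec n F, QF n F w0 ≠ 0 ∧ B w0 p = 0 ∧
      B w0 x = 0 ∧ B w0 r = 0 ∧ B w0 s = 0 := by
    by_cases h1 : QF n F w1 = 0
    · by_cases h2 : QF n F w2 = 0
      · refine ⟨w1 + w2, ?_, ?_, ?_, ?_, ?_⟩
        · rw [Q_add, h1, h2, hw12]; simpa using hu
        · rw [B_add_left, hw1p, hw2p, add_zero]
        · rw [B_add_left, hw1x, hw2x, add_zero]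
        · rw [B_add_left, hw1r, hw2r, add_zero]
        · rw [B_add_left, hw1s, hw2s, add_zero]
      · exact ⟨w2, h2, hw2p, hw2x, hw2r, hw2s⟩
    · exact ⟨w1, h1, hw1p, hw1x, hw1r, hw1s⟩
  -- the second vector of the opposite line
  obtain ⟨y, hy⟩ : ∃ y : Vec n F, y = (-(QF n F w0) / β) • r + s + w0 := ⟨_, rfl⟩
  have hxy : B x y = 0 := by
    rw [hy, B_add_right, B_add_right, B_smul_right, B_comm x r, hrx, B_comm x s, hsx,
      B_comm x w0, hw0x]; ring
  have hpy : B p y = 0 := by
    rw [hy, B_add_right, B_add_right, B_smul_right, hBpr, hBps, B_comm p w0, hw0p]; ring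
  have hry : B r y = β := by
    rw [hy, B_add_right, B_add_right, B_smul_right, hBrr, hrs, B_comm r w0, hw0r]; ring
  have hsy : B s y = -(QF n F w0) := by
    rw [hy, B_add_right, B_add_right, B_smul_right, hsr, hBss, B_comm s w0, hw0s]
    field_simp; ring
  have hQy : QF n F y = 0 := by
    rw [hy, Q_add, Q_add, Q_smul, hQr, hQs, B_smul_left, hrs, B_add_left, B_smul_left,
      B_comm r w0, hw0r, B_comm s w0, hw0s]
    field_simp; ring
  refine ⟨x, y, ⟨?_, hQx, hQy, ?_⟩, ?_, ?_⟩
  · rw [LinearIndependent.pair_iff]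
    intro a b hab
    have h1 : B p (a • x + b • y) = 0 := by rw [hab, B_zero_right]
    rw [B_add_right, B_smul_right, B_smul_right, hpx, hpy] at h1
    have ha : a = 0 := by simpa using h1
    have h2 : B r (a • x + b • y) = 0 := by rw [hab, B_zero_right]
    rw [B_add_right, B_smul_right, B_smul_right, hrx, hry, ha] at h2
    have hb : b = 0 := by
      have h3 : b * β = 0 := by simpa using h2
      exact (mul_eq_zero.mp h3).resolve_right hβ
    exact ⟨ha, hb⟩
  · rw [Q_add, hQx, hQy, hxy]; ring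
  · unfold Opp
    rw [hpx, hry, hpy, hrx]; simpa using hβ
  · unfold Opp
    rw [hpx, hsy, hpy, hsx]; simpa using hQw0

end Cfsg.Agent.Lib.Helper86.Siegel
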